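import Mathlib
import Groth.Prelude.Def_TopMod
import Groth.Prelude.Def_LinTop

set_option autoImplicit false
universe u v w

open Filter Topology

namespace Groth.Agent.Top14

variable {A : Type u} {M : Type v} {N : Type w} [CommRing A] [TopologicalSpace A] [AddCommGroup M]
  [Module A M] [TopologicalSpace M] [AddCommGroup N] [Module A N] [TopologicalSpace N]

lemma continuous_of_kills (hN : TopMod.IsDeduced A N) {E : Type v} [AddCommGroup E] [Module A E]
    [TopologicalSpace E] [DiscreteTopology E] (f : N →ₗ[A] E) (J : Ideal A) (hJ : IsOpen (J : Set A))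
    (h : ∀ x ∈ (J • ⊤ : Submodule A N), f x = 0) : Continuous f := by
  have := hN.1
  have : IsTopologicalAddGroup E := by
    exact { continuous_add := continuous_of_discreteTopology, continuous_neg := continuous_of_discreteTopology }
  refine continuous_of_continuousAt_zero f.toAddMonoidHom ?_
  rw [ContinuousAt, map_zero, nhds_discrete E]
  exact tendsto_pure.2 (Filter.mem_of_superset (hN.2.mem_of_mem hJ) h)

theorem isFormallyLeftInvertible_iff (hM : TopMod.IsDeduced A M) (hN : TopMod.IsDeduced A N)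
    (u : M →L[A] N) :
    TopMod.IsFormallyLeftInvertible u ↔
      ∀ J : Ideal A, IsOpen (J : Set A) →
        ∃ w : N →ₗ[A] M ⧸ (J • ⊤ : Submodule A M), ∀ x : M, w (u x) = Submodule.Quotient.mk x := by
  constructor
  · intro h J hJ
    letI : TopologicalSpace (M ⧸ (J • ⊤ : Submodule A M)) := ⊥
    haveI : DiscreteTopology (M ⧸ (J • ⊤ : Submodule A M)) := ⟨rfl⟩
    let v : M →L[A] M ⧸ (J • ⊤ : Submodule A M) :=
      ⟨Submodule.mkQ _, continuous_of_kills (N := M) hM _ J hJ fun x hx => by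
        rwa [Submodule.mkQ_apply, Submodule.Quotient.mk_eq_zero]⟩
    obtain ⟨w, hw⟩ := h _ v
    exact ⟨w.toLinearMap, hw⟩
  · intro h E _ _ _ _ v
    obtain ⟨J, hJ, hJv⟩ := hM.2.mem_iff.1 (v.continuous.continuousAt.preimage_mem_nhds
      (show ({0} : Set E) ∈ 𝓝 (v 0) by simp [nhds_discrete]))
    obtain ⟨w, hw⟩ := h J hJ
    let vb := (J • ⊤ : Submodule A M).liftQ v.toLinearMap fun x hx => by simpa using hJv hx
    have hkill : ∀ y ∈ (J • ⊤ : Submodule A N), (vb ∘ₗ w) y = 0 := by
      intro y hy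
      have : w y ∈ (J • ⊤ : Submodule A N).map w := ⟨y, hy, rfl⟩
      rw [Submodule.map_smul''] at this
      have h0 : ∀ z ∈ J • (⊤ : Submodule A N).map w, vb z = 0 := by
        intro z hz
        refine Submodule.smul_induction_on hz (fun a ha z _ => ?_) (fun a b ha hb => by simp [ha, hb])
        obtain ⟨z, rfl⟩ := Submodule.Quotient.mk_surjective _ z
        rw [← Submodule.Quotient.mk_smul, (Submodule.Quotient.mk_eq_zero _).2
          (Submodule.smul_mem_smul ha Submodule.mem_top), map_zero]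
      exact h0 _ this
    exact ⟨⟨vb ∘ₗ w, continuous_of_kills hN _ J hJ hkill⟩, fun x => by
      change vb (w (u x)) = v x
      rw [hw]; rfl⟩

lemma quot_smul_eq_zero (J : Ideal A) {a : A} (ha : a ∈ J) (z : M ⧸ (J • ⊤ : Submodule A M)) : a • z = 0 := by
  obtain ⟨z, rfl⟩ := Submodule.Quotient.mk_surjective _ z
  rw [← Submodule.Quotient.mk_smul, Submodule.Quotient.mk_eq_zero]
  exact Submodule.smul_mem_smul ha trivial

/-- Lifting through a surjection of modules killed by `J`, from `N` with `N/JN` projective. -/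
lemma exists_lift {P Q : Type*} [AddCommGroup P] [Module A P] [AddCommGroup Q] [Module A Q] (J : Ideal A)
    (hproj : Module.Projective (A ⧸ J) (N ⧸ (J • (⊤ : Submodule A N))))
    (hP : ∀ a ∈ J, ∀ z : P, a • z = 0) (f : P →ₗ[A] Q) (hf : Function.Surjective f)
    (g : N →ₗ[A] Q) : ∃ h : N →ₗ[A] P, f ∘ₗ h = g := by
  have hQ : ∀ a ∈ J, ∀ z : Q, a • z = 0 := fun a ha z => by
    obtain ⟨z, rfl⟩ := hf z
    rw [← map_smul, hP a ha, map_zero]
  letI : Module (A ⧸ J) P := Module.IsTorsionBySet.module (fun z a => hP a a.2 z)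
  letI : Module (A ⧸ J) Q := Module.IsTorsionBySet.module (fun z a => hQ a a.2 z)
  let f' : P →ₗ[A ⧸ J] Q :=
    { f with
      map_smul' := fun c z => by
        obtain ⟨c, rfl⟩ := Ideal.Quotient.mk_surjective c
        exact f.map_smul c z }
  let g0 : N ⧸ (J • ⊤ : Submodule A N) →ₗ[A] Q := (J • ⊤ : Submodule A N).liftQ g fun x hx =>
    Submodule.smul_induction_on hx (fun a ha z _ => by simp [hQ a ha]) (fun a b ha hb => add_mem ha hb)
  let g' : N ⧸ (J • ⊤ : Submodule A N) →ₗ[A ⧸ J] Q :=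
    { g0 with
      map_smul' := fun c z => by
        obtain ⟨c, rfl⟩ := Ideal.Quotient.mk_surjective c
        exact g0.map_smul c z }
  obtain ⟨h', hh⟩ := Module.projective_lifting_property f' g' hf
  refine ⟨{ toFun := fun y => h' (Submodule.Quotient.mk y)
            map_add' := fun x y => by simp
            map_smul' := fun c y => ?_ }, LinearMap.ext fun y => ?_⟩
  · change h' ((Ideal.Quotient.mk J c) • Submodule.Quotient.mk y) = Ideal.Quotient.mk J c • h' _
    exact h'.map_smul _ _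
  · exact LinearMap.congr_fun hh (Submodule.Quotient.mk y)

theorem left_inverse_of_mod_definition (𝔏 : Ideal A) (h𝔏 : LinTop.IsIdealOfDefinition A 𝔏)
    (hproj : ∀ J : Ideal A, IsOpen (J : Set A) → Module.Projective (A ⧸ J) (N ⧸ (J • (⊤ : Submodule A N))))
    (u : M →L[A] N) (w : N →ₗ[A] M ⧸ (𝔏 • ⊤ : Submodule A M))
    (hw : ∀ x : M, w (u x) = Submodule.Quotient.mk x) (J : Ideal A) (hJ : IsOpen (J : Set A)) :
    ∃ w' : N →ₗ[A] M ⧸ (J • ⊤ : Submodule A M), ∀ x : M, w' (u x) = Submodule.Quotient.mk x := by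
  obtain ⟨n, -, hn⟩ := h𝔏.2 J (hJ.mem_nhds J.zero_mem)
  let S : Submodule A M := (J • ⊤) ⊔ (𝔏 • ⊤)
  let f : M ⧸ (J • ⊤ : Submodule A M) →ₗ[A] M ⧸ S := Submodule.factor le_sup_left
  let p : M ⧸ (𝔏 • ⊤ : Submodule A M) →ₗ[A] M ⧸ S := Submodule.factor le_sup_right
  have hf : Function.Surjective f := Submodule.factor_surjective _
  obtain ⟨h, hh⟩ := exists_lift J (hproj J hJ) (fun a ha z => quot_smul_eq_zero J ha z) f hf (p ∘ₗ w)
  let e : M ⧸ (J • ⊤ : Submodule A M) →ₗ[A] M ⧸ (J • ⊤ : Submodule A M) :=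
    (J • ⊤ : Submodule A M).liftQ (h ∘ₗ u.toLinearMap) fun x hx =>
      Submodule.smul_induction_on hx (fun a ha z _ => by simp [quot_smul_eq_zero J ha])
        (fun a b ha hb => add_mem ha hb)
  have he : ∀ x, e x - x ∈ (𝔏 • ⊤ : Submodule A (M ⧸ (J • ⊤ : Submodule A M))) := by
    intro x
    obtain ⟨x, rfl⟩ := Submodule.Quotient.mk_surjective _ x
    have h1 : f (e (Submodule.Quotient.mk x)) = f (Submodule.Quotient.mk x) := by
      change f (h (u x)) = _
      rw [← LinearMap.comp_apply f h, hh]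
      simp [hw, f, p, Submodule.factor]
    have h2 : e (Submodule.Quotient.mk x) - Submodule.Quotient.mk x ∈ LinearMap.ker f := by
      rw [LinearMap.mem_ker, map_sub, h1, sub_self]
    obtain ⟨y, hy⟩ := Submodule.Quotient.mk_surjective _ (e (Submodule.Quotient.mk x) - Submodule.Quotient.mk x)
    rw [← hy] at h2 ⊢
    have h3 : y ∈ S := by simpa [f, Submodule.factor, Submodule.Quotient.mk_eq_zero] using h2
    obtain ⟨j, hj, l, hl, rfl⟩ := Submodule.mem_sup.1 h3
    rw [Submodule.Quotient.mk_add, (Submodule.Quotient.mk_eq_zero _).2 hj, zero_add]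
    have : (J • ⊤ : Submodule A M).mkQ l ∈ (𝔏 • ⊤ : Submodule A M).map (J • ⊤ : Submodule A M).mkQ := ⟨l, hl, rfl⟩
    rw [Submodule.map_smul''] at this
    exact Submodule.smul_mono le_rfl le_top this
  let d : Module.End A (M ⧸ (J • ⊤ : Submodule A M)) := 1 - e
  have hd : ∀ (k : ℕ) x, (d ^ k) x ∈ (𝔏 ^ k • ⊤ : Submodule A (M ⧸ (J • ⊤ : Submodule A M))) := by
    intro k
    induction k with
    | zero => intro x; simp
    | succ k ih =>
      intro x
      rw [pow_succ' d, Module.End.mul_apply]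
      have h4 : ∀ z ∈ (𝔏 ^ k • ⊤ : Submodule A (M ⧸ (J • ⊤ : Submodule A M))),
          d z ∈ (𝔏 ^ (k + 1) • ⊤ : Submodule A (M ⧸ (J • ⊤ : Submodule A M))) := by
        intro z hz
        refine Submodule.smul_induction_on hz (fun a ha y _ => ?_) (fun a b ha hb => by rw [map_add]; exact add_mem ha hb)
        rw [map_smul, pow_succ, Submodule.mul_smul]
        refine Submodule.smul_mem_smul ha ?_
        have := Submodule.neg_mem _ (he y)
        simpa [d] using this
      exact h4 _ (ih x)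
  have hdn : IsNilpotent d := ⟨n, LinearMap.ext fun x => by
    have := hd n x
    rw [LinearMap.zero_apply]
    refine Submodule.smul_induction_on this (fun a ha y _ => quot_smul_eq_zero J (hn ha) y) (fun a b ha hb => by simp [ha, hb])⟩
  obtain ⟨U, hU⟩ := hdn.isUnit_one_sub
  have heU : (U : Module.End A _) = e := by rw [hU]; simp [d]
  refine ⟨((U⁻¹ : (Module.End A (M ⧸ (J • ⊤ : Submodule A M)))ˣ) : Module.End A (M ⧸ (J • ⊤ : Submodule A M))) ∘ₗ h, fun x => ?_⟩
  have : h (u x) = e (Submodule.Quotient.mk x) := rfl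
  rw [LinearMap.comp_apply, this, ← heU, ← Module.End.mul_apply, Units.inv_mul, Module.End.one_apply]

lemma projective_coker_mod (J : Ideal A) (u : M →ₗ[A] N)
    (hproj : Module.Projective (A ⧸ J) (N ⧸ (J • (⊤ : Submodule A N))))
    (w : N →ₗ[A] M ⧸ (J • ⊤ : Submodule A M)) (hw : ∀ x : M, w (u x) = Submodule.Quotient.mk x) :
    Module.Projective (A ⧸ J)
      ((N ⧸ LinearMap.range u) ⧸ (J • (⊤ : Submodule A (N ⧸ LinearMap.range u)))) := by
  let C := N ⧸ LinearMap.range u
  let ub : M ⧸ (J • ⊤ : Submodule A M) →ₗ[A] N ⧸ (J • ⊤ : Submodule A N) :=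
    (J • ⊤ : Submodule A M).liftQ ((J • ⊤ : Submodule A N).mkQ ∘ₗ u) fun x hx =>
      Submodule.smul_induction_on hx (fun a ha z _ => by simp [quot_smul_eq_zero J ha])
        (fun a b ha hb => add_mem ha hb)
  let q : N ⧸ (J • ⊤ : Submodule A N) →ₗ[A] C ⧸ (J • ⊤ : Submodule A C) :=
    (J • ⊤ : Submodule A N).liftQ ((J • ⊤ : Submodule A C).mkQ ∘ₗ (LinearMap.range u).mkQ) fun x hx =>
      Submodule.smul_induction_on hx (fun a ha z _ => by simp [quot_smul_eq_zero (M := C) J ha])
        (fun a b ha hb => add_mem ha hb)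
  let s0 : N →ₗ[A] N ⧸ (J • ⊤ : Submodule A N) := (J • ⊤ : Submodule A N).mkQ - ub ∘ₗ w
  let s1 : C →ₗ[A] N ⧸ (J • ⊤ : Submodule A N) := (LinearMap.range u).liftQ s0 (by
    rintro _ ⟨x, rfl⟩
    simp [s0, hw, ub])
  let s2 : C ⧸ (J • ⊤ : Submodule A C) →ₗ[A] N ⧸ (J • ⊤ : Submodule A N) :=
    (J • ⊤ : Submodule A C).liftQ s1 fun x hx =>
      Submodule.smul_induction_on hx (fun a ha z _ => by simp [quot_smul_eq_zero J ha])
        (fun a b ha hb => add_mem ha hb)
  have hqs : ∀ c, q (s2 c) = c := by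
    intro c
    obtain ⟨c, rfl⟩ := Submodule.Quotient.mk_surjective _ c
    obtain ⟨y, rfl⟩ := Submodule.Quotient.mk_surjective _ c
    have : q (ub (w y)) = 0 := by
      obtain ⟨m, hm⟩ := Submodule.Quotient.mk_surjective _ (w y)
      rw [← hm]
      change Submodule.Quotient.mk (Submodule.Quotient.mk (u m) : C) = 0
      rw [(Submodule.Quotient.mk_eq_zero (LinearMap.range u)).2 ⟨m, rfl⟩, Submodule.Quotient.mk_zero]
    change q (Submodule.Quotient.mk y - ub (w y)) = _
    rw [map_sub, this, sub_zero]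
    rfl
  let q' : N ⧸ (J • ⊤ : Submodule A N) →ₗ[A ⧸ J] C ⧸ (J • ⊤ : Submodule A C) :=
    { q with
      map_smul' := fun c z => by
        obtain ⟨c, rfl⟩ := Ideal.Quotient.mk_surjective c
        exact q.map_smul c z }
  let s' : C ⧸ (J • ⊤ : Submodule A C) →ₗ[A ⧸ J] N ⧸ (J • ⊤ : Submodule A N) :=
    { s2 with
      map_smul' := fun c z => by
        obtain ⟨c, rfl⟩ := Ideal.Quotient.mk_surjective c
        exact s2.map_smul c z }
  exact Module.Projective.of_split s' q' (LinearMap.ext hqs)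

end Groth.Agent.Top14

namespace Groth.Agent.Top14

variable {A : Type u} {M : Type v} {N : Type w}
    [CommRing A] [TopologicalSpace A] [AddCommGroup M] [Module A M] [UniformSpace M] [IsUniformAddGroup M]
    [CompleteSpace M] [T2Space M] [AddCommGroup N] [Module A N] [TopologicalSpace N]

theorem exists_leftInverse_of_complete
    (𝔍 : ℕ → Ideal A) (h𝔍open : ∀ n, IsOpen (𝔍 n : Set A)) (h𝔍anti : Antitone 𝔍)
    (h𝔍basis : (nhds (0 : A)).HasBasis (fun _ : ℕ => True) (fun n => (𝔍 n : Set A)))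
    (hM : TopMod.IsDeduced A M) (u : M →L[A] N)
    (hcoker : ∀ n, Module.Projective (A ⧸ 𝔍 n)
      ((N ⧸ LinearMap.range u.toLinearMap) ⧸ (𝔍 n • (⊤ : Submodule A (N ⧸ LinearMap.range u.toLinearMap)))))
    (h : ∀ J : Ideal A, IsOpen (J : Set A) →
      ∃ w : N →ₗ[A] M ⧸ (J • ⊤ : Submodule A M), ∀ x : M, w (u x) = Submodule.Quotient.mk x) :
    ∃ w : N →ₗ[A] M, ∀ x : M, w (u x) = x := by
  classical
  let S : ℕ → Submodule A M := fun n => 𝔍 n • ⊤
  have hS : Antitone S := fun a b hab => Submodule.smul_mono (h𝔍anti hab) le_rfl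
  have hSb : (𝓝 (0 : M)).HasBasis (fun _ : ℕ => True) (fun n => (S n : Set M)) := by
    refine hM.2.to_hasBasis (fun J hJ => ?_) (fun n _ => ⟨𝔍 n, h𝔍open n, subset_rfl⟩)
    obtain ⟨n, -, hn⟩ := h𝔍basis.mem_iff.1 (hJ.mem_nhds J.zero_mem)
    exact ⟨n, trivial, Submodule.smul_mono hn le_rfl⟩
  have step : ∀ n (wn : {w : N →ₗ[A] M ⧸ S n // ∀ x : M, w (u x) = Submodule.Quotient.mk x}),
      ∃ w' : {w : N →ₗ[A] M ⧸ S (n + 1) // ∀ x : M, w (u x) = Submodule.Quotient.mk x},
        Submodule.factor (hS (Nat.le_succ n)) ∘ₗ w'.1 = wn.1 := by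
    rintro n ⟨wn, hwn⟩
    obtain ⟨w', hw'⟩ := h _ (h𝔍open (n + 1))
    let p := Submodule.factor (hS (Nat.le_succ n))
    let d := wn - p ∘ₗ w'
    let d' : (N ⧸ LinearMap.range u.toLinearMap) →ₗ[A] M ⧸ S n :=
      (LinearMap.range u.toLinearMap).liftQ d (by
        rintro _ ⟨x, rfl⟩
        simp [d, hwn, p, Submodule.factor, show w' (u x) = Submodule.Quotient.mk x from hw' x, S])
    obtain ⟨g, hg⟩ := exists_lift (𝔍 (n + 1)) (hcoker (n + 1))
      (fun a ha z => quot_smul_eq_zero _ ha z) p (Submodule.factor_surjective _) d'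
    refine ⟨⟨w' + g ∘ₗ (LinearMap.range u.toLinearMap).mkQ, fun x => ?_⟩, LinearMap.ext fun y => ?_⟩
    · have : (LinearMap.range u.toLinearMap).mkQ (u x) = 0 :=
        (Submodule.Quotient.mk_eq_zero _).2 ⟨x, rfl⟩
      simp only [LinearMap.add_apply, LinearMap.comp_apply, this, map_zero, add_zero]
      exact hw' x
    · have := LinearMap.congr_fun hg ((LinearMap.range u.toLinearMap).mkQ y)
      simp only [LinearMap.comp_apply] at this
      simp only [LinearMap.comp_apply, LinearMap.add_apply, map_add]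
      change p (w' y) + p (g _) = _
      rw [this]
      simp [d', d]
  choose next hnext using step
  let init : {w : N →ₗ[A] M ⧸ S 0 // ∀ x : M, w (u x) = Submodule.Quotient.mk x} :=
    ⟨(h _ (h𝔍open 0)).choose, (h _ (h𝔍open 0)).choose_spec⟩
  let W : ∀ n, {w : N →ₗ[A] M ⧸ S n // ∀ x : M, w (u x) = Submodule.Quotient.mk x} :=
    fun n => Nat.rec init next n
  have compat : ∀ n k (hnk : n ≤ k), Submodule.factor (hS hnk) ∘ₗ (W k).1 = (W n).1 := by
    intro n k hnk
    induction k, hnk using Nat.le_induction with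
    | base => ext y; simp
    | succ k hnk ih =>
      rw [← ih, ← hnext k (W k)]
      ext y
      obtain ⟨m, hm⟩ := Submodule.Quotient.mk_surjective _ ((next k (W k)).1 y)
      simp only [LinearMap.comp_apply]
      change Submodule.factor (hS (hnk.trans (Nat.le_succ k))) ((next k (W k)).1 y) =
        Submodule.factor (hS hnk) (Submodule.factor (hS (Nat.le_succ k)) ((next k (W k)).1 y))
      rw [← hm]
      rfl
  have uniq : ∀ x : M, (∀ n, x ∈ S n) → x = 0 := by
    intro x hx
    by_contra hne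
    obtain ⟨n, -, hn⟩ := hSb.mem_iff.1 (isOpen_compl_singleton.mem_nhds (Ne.symm hne))
    exact hn (hx n) rfl
  have exist : ∀ y, ∃ m : M, ∀ n, Submodule.Quotient.mk m = (W n).1 y := by
    intro y
    choose m hm using fun n => Submodule.Quotient.mk_surjective (S n) ((W n).1 y)
    have hmem : ∀ n k, n ≤ k → m k - m n ∈ S n := fun n k hnk => by
      rw [← Submodule.Quotient.eq, hm n, ← compat n k hnk, LinearMap.comp_apply, ← hm k]
      rfl
    have hc : CauchySeq m := by
      rw [cauchySeq_iff]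
      intro V hV
      rw [uniformity_eq_comap_nhds_zero M, Filter.mem_comap] at hV
      obtain ⟨U, hU, hUV⟩ := hV
      obtain ⟨n, -, hn⟩ := hSb.mem_iff.1 hU
      refine ⟨n, fun a ha b hb => hUV (hn ?_)⟩
      have := sub_mem (hmem n b hb) (hmem n a ha)
      simpa using this
    obtain ⟨l, hl⟩ := cauchySeq_tendsto_of_complete hc
    refine ⟨l, fun n => ?_⟩
    rw [← hm n, Submodule.Quotient.eq]
    have hcl : IsClosed (S n : Set M) := by
      refine AddSubgroup.isClosed_of_isOpen (S n).toAddSubgroup ?_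
      exact AddSubgroup.isOpen_of_mem_nhds (g := 0) _ (hSb.mem_of_mem trivial)
    exact hcl.mem_of_tendsto (hl.sub_const (m n))
      (Filter.eventually_atTop.2 ⟨n, fun k hk => hmem n k hk⟩)
  choose w hw using exist
  refine ⟨{ toFun := w, map_add' := fun a b => ?_, map_smul' := fun c a => ?_ }, fun x => ?_⟩
  · refine sub_eq_zero.1 (uniq _ fun n => ?_)
    rw [← Submodule.Quotient.eq, Submodule.Quotient.mk_add, hw, hw, hw, map_add]
  · refine sub_eq_zero.1 (uniq _ fun n => ?_)
    rw [← Submodule.Quotient.eq, RingHom.id_apply, Submodule.Quotient.mk_smul, hw, hw, map_smul]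
  · refine sub_eq_zero.1 (uniq _ fun n => ?_)
    change w (u x) - x ∈ S n
    rw [← Submodule.Quotient.eq, hw]
    exact (W n).2 x

end Groth.Agent.Top14
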